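import Cfsg.Agent.H752.S5.CoFiveData
import Cfsg.Agent.H752.TFiveCo
import Cfsg.Agent.H132.S5.Main
import Cfsg.Agent.H983.PairTriple

/-!
# The strong pairs of order 5 of `Co1` (helper752; S2274)

The three classes of elements of order five are rational; for two different classes the pairs come from explicit words.
`srow_co1 : SRow 5 K` for `K ≅ Co1`.
-/

set_option autoImplicit false

namespace Cfsg.Agent.H752.S5.CoFive

open Cfsg Subgroup Cfsg.Agent.SporadicStructure.Co0Base Cfsg.Agent.CoOneType.CoEval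
open Cfsg.Agent.CpAutCoOneFive Cfsg.Agent.CpAutCoOneFive.Mat
open Cfsg.Agent.CpAutCoOneFive.Elem (a b c d)
open Cfsg.Agent.H533.T5 Cfsg.Agent.H106.MT Cfsg.Agent.H132.S5
open Cfsg.Agent.SporadicA Cfsg.Agent.SporadicStructure.Co0Matrix
open Cfsg.Agent.H752.CoOnePairs (pr_mul pr_inv pr_pow pr_zpow pr_one vl vl_append vl_flatten exists_rep rv0 rv1 rv2 rv)
open Cfsg.Agent.CpAutCoOneFive.Cls (five)

universe u

/-- the element `z` -/
def z : Spor.Co1 := pr (mk ok_z)

/-- the value of a word with the letter `z` -/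
def vl' (w : List ℕ) : Spor.Co1 := (w.map fun i => pr (e' i)).prod

theorem rl {u v : List ℕ} (h : sameB M' u v = true) : vl' u = vl' v := eq_of_sameB rep' h

theorem z_a : z * pr a * z⁻¹ = pr a ^ 2 := by
  have h := rl rel_za
  simp only [vl', List.map_cons, List.map_nil, List.prod_cons, List.prod_nil, mul_one] at h
  have h1 : z * pr a = pr a * (pr a * z) := h
  rw [h1, pow_two]
  group

theorem z_d : z * pr d * z⁻¹ = pr d ^ 2 := by
  have h := rl rel_zd
  simp only [vl', List.map_cons, List.map_nil, List.prod_cons, List.prod_nil, mul_one] at h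
  have h1 : z * pr d = pr d * (pr d * z) := h
  rw [h1, pow_two]
  group

theorem t_c : pr Elem.t * pr c * (pr Elem.t)⁻¹ = pr c ^ 2 := by
  rw [← pr_mul, Elem.tc, pr_mul, pr_pow]
  group

/-- the representatives are conjugate to their squares -/
theorem sq_rv {i : ℕ} (hi : i < 3) : ∃ w : Spor.Co1, w * rv i * w⁻¹ = rv i ^ 2 := by
  interval_cases i
  · exact ⟨z, by rw [rv0]; exact z_a⟩
  · exact ⟨pr Elem.t, by rw [rv1]; exact t_c⟩
  · exact ⟨z, by rw [rv2]; exact z_d⟩

/-- an element conjugate to its square is conjugate to all its powers -/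
theorem isConj_pow_of_sq {G : Type*} [Group G] {r : G} (h : ∃ w : G, w * r * w⁻¹ = r ^ 2) (n : ℕ) :
    IsConj r (r ^ 2 ^ n) := by
  obtain ⟨w, hw⟩ := h
  induction n with
  | zero => rw [pow_zero, pow_one]
  | succ n ih =>
    refine ih.trans ?_
    rw [pow_succ' 2 n, pow_mul, ← hw, conj_pow]
    exact isConj_iff.2 ⟨w, rfl⟩

/-- in a rational class of elements of order five, every power equal to the representative up to conjugacy comes from a
conjugate -/
theorem isConj_of_zpow {G : Type*} [Group G] {r x w : G} (h : ∃ w : G, w * r * w⁻¹ = r ^ 2) (hr : orderOf r = 5)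
    (hx : orderOf x = 5) {n : ℤ} (hw : w * x ^ n * w⁻¹ = r) : IsConj r x := by
  have h1 : r ∈ zpowers (w * x * w⁻¹) := ⟨n, by
    show (w * x * w⁻¹) ^ n = r
    rw [← hw, conj_zpow]⟩
  have h2 : orderOf (w * x * w⁻¹) = 5 := by rw [← MulAut.conj_apply, MulEquiv.orderOf_eq, hx]
  have h3 : zpowers r = zpowers (w * x * w⁻¹) := by
    have hfin : Finite ↥(zpowers (w * x * w⁻¹)) :=
      Nat.finite_of_card_ne_zero (by rw [Nat.card_zpowers, h2]; norm_num)
    exact Subgroup.eq_of_le_of_card_ge (zpowers_le.2 h1) (by rw [Nat.card_zpowers, Nat.card_zpowers, h2, hr])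
  have h4 : w * x * w⁻¹ ∈ zpowers r := by rw [h3]; exact mem_zpowers _
  have hfo : IsOfFinOrder r := orderOf_pos_iff.1 (by rw [hr]; norm_num)
  obtain ⟨m, hm⟩ := (hfo.mem_powers_iff_mem_zpowers).2 h4
  have h5 : r ^ (m % 5) = w * x * w⁻¹ := by
    have := pow_mod_orderOf r m
    rw [hr] at this
    rw [this]
    exact hm
  have h6 : ∃ k : ℕ, 2 ^ k % 5 = m % 5 := by
    have h7 : m % 5 < 5 := Nat.mod_lt _ (by norm_num)
    have h8 : m % 5 ≠ 0 := by
      intro h0
      rw [h0, pow_zero] at h5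
      rw [← h5, orderOf_one] at h2
      norm_num at h2
    interval_cases hmm : m % 5
    · exact absurd rfl h8
    · exact ⟨0, by norm_num⟩
    · exact ⟨1, by norm_num⟩
    · exact ⟨3, by norm_num⟩
    · exact ⟨2, by norm_num⟩
  obtain ⟨k, hk⟩ := h6
  have h9 : r ^ 2 ^ k = w * x * w⁻¹ := by
    rw [← h5, ← hk]
    have := pow_mod_orderOf r (2 ^ k)
    rw [hr] at this
    exact this.symm
  have h10 : IsConj (w * x * w⁻¹) x := (isConj_iff.2 ⟨w, rfl⟩ : IsConj x (w * x * w⁻¹)).symm
  exact ((isConj_pow_of_sq h k).trans (by rw [h9])).trans h10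

theorem orderOf_rv {i : ℕ} (hi : i < 3) : orderOf (rv i) = 5 := by
  have hne : ∀ {w : List ℕ}, neB M w = true → (w.map fun i => pr (e i)).prod ≠ 1 := fun h => ne_one_of_neB rep h
  have key : ∀ {x : Co0}, x ^ 5 = 1 → pr x ≠ 1 → orderOf (pr x) = 5 := by
    intro x h1 h2
    refine orderOf_eq_prime ?_ h2
    rw [← pr_pow, h1, pr_one]
  interval_cases i
  · rw [rv0]
    refine key Elem.a_pow ?_
    have := hne (w := [0]) (by decide +kernel)
    simp only [List.map_cons, List.map_nil, List.prod_cons, List.prod_nil, mul_one] at this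
    exact this
  · rw [rv1]
    refine key Elem.c_pow ?_
    have := hne Mat.ne_c
    rw [← rv1]
    exact this
  · rw [rv2]
    refine key Elem.d_pow ?_
    have := hne (w := [2]) (by decide +kernel)
    simp only [List.map_cons, List.map_nil, List.prod_cons, List.prod_nil, mul_one] at this
    exact this

/-! ### Different classes -/

theorem apair_bpair {G : Type*} [Group G] {x y : G} {n m : ℕ} (hx : x ≠ 1) (h5 : x ^ 5 = 1) (hxy : x * y ≠ 1)
    (hn : (x * y) ^ n = 1) (hxxy : x * (x * y) ≠ 1) (hm : (x * (x * y)) ^ m = 1) (h5n : Nat.Coprime 5 n)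
    (h5m : Nat.Coprime 5 m) (hnm : Nat.Coprime n m) :
    ¬ Group.IsSolvable ↥(closure ({x, y} : Set G)) ∧ ∀ k : ℕ, (x * y) ^ 5 ^ k ≠ 1 := by
  refine ⟨fun hs => ?_, fun k hk => hxy ?_⟩
  · refine H983.PairTriple.not_solvable_pair hx hxy hxxy h5 hn hm h5n hnm h5m (isSolvable_of_le ?_ hs)
    rw [closure_le]
    have h1 : x ∈ closure ({x, y} : Set G) := subset_closure (by simp)
    have h2 : y ∈ closure ({x, y} : Set G) := subset_closure (by simp)
    rintro z (rfl | rfl)
    · exact h1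
    · exact mul_mem h1 h2
  · have h4 := pow_gcd_eq_one.mpr ⟨hn, hk⟩
    rwa [(Nat.Coprime.pow_right k h5n.symm : Nat.gcd n (5 ^ k) = 1), pow_one] at h4

theorem vl_iw : ∀ {w : List ℕ}, (∀ i ∈ w, i < 18) → vl (iw w) = (vl w)⁻¹ :=
  fun h => H752.CoOnePairs.vl_iw h

theorem vl_rp (i : ℕ) : vl (rp i) = rv i := rfl

theorem pair_lt {i j : ℕ} (h : good i j = true) (hlt : ∀ t ∈ (gt i j).1, t < 18)
    (hc : Nat.Coprime 5 (gt i j).2.1) (hc' : Nat.Coprime 5 (gt i j).2.2) (hc'' : Nat.Coprime (gt i j).2.1 (gt i j).2.2)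
    (hr : orderOf (rv i) = 5) : SPair 5 (⊤ : Subgroup Spor.Co1) (rv i) (rv j) := by
  unfold good at h
  rw [Bool.and_eq_true, Bool.and_eq_true, Bool.and_eq_true] at h
  obtain ⟨⟨⟨h1, h2⟩, h3⟩, h4⟩ := h
  have hw : vl (wd i j) = rv i * (vl (gt i j).1 * rv j * (vl (gt i j).1)⁻¹) := by
    unfold wd
    rw [vl_append, vl_append, vl_append, vl_iw hlt, vl_rp, vl_rp]
    simp only [mul_assoc]
  have hw2 : vl (rp i ++ wd i j) = rv i * (rv i * (vl (gt i j).1 * rv j * (vl (gt i j).1)⁻¹)) := by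
    rw [vl_append, vl_rp, hw]
  obtain ⟨ha, hb⟩ := apair_bpair (x := rv i) (y := vl (gt i j).1 * rv j * (vl (gt i j).1)⁻¹) (n := (gt i j).2.1)
    (m := (gt i j).2.2) (fun h0 => by rw [h0, orderOf_one] at hr; norm_num at hr) (by rw [← hr, pow_orderOf_eq_one])
    (by rw [← hw]; exact ne_one_of_neB rep h2) (by rw [← hw, ← vl_flatten]; exact eq_one_of_relB rep h1)
    (by rw [← hw2]; exact ne_one_of_neB rep h4) (by rw [← hw2, ← vl_flatten]; exact eq_one_of_relB rep h3) hc hc' hc''
  exact SPair.mk' five ⟨_, mem_top _, ha⟩ ⟨_, mem_top _, hb⟩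

theorem pair01 : SPair 5 (⊤ : Subgroup Spor.Co1) (rv 0) (rv 1) :=
  pair_lt good01 (by decide) (by decide) (by decide) (by decide) (orderOf_rv (by norm_num))

theorem pair02 : SPair 5 (⊤ : Subgroup Spor.Co1) (rv 0) (rv 2) :=
  pair_lt good02 (by decide) (by decide) (by decide) (by decide) (orderOf_rv (by norm_num))

theorem pair12 : SPair 5 (⊤ : Subgroup Spor.Co1) (rv 1) (rv 2) :=
  pair_lt good12 (by decide) (by decide) (by decide) (by decide) (orderOf_rv (by norm_num))

theorem pair_rv {i j : ℕ} (hi : i < 3) (hj : j < 3) (hij : i ≠ j) : SPair 5 (⊤ : Subgroup Spor.Co1) (rv i) (rv j) := by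
  interval_cases i <;> interval_cases j
  · exact absurd rfl hij
  · exact pair01
  · exact pair02
  · exact pair01.symm
  · exact absurd rfl hij
  · exact pair12
  · exact pair02.symm
  · exact pair12.symm
  · exact absurd rfl hij

/-- **Two elements of order five of `Co1` are conjugate or a strong pair.** -/
theorem conj_or_pair {x y : Spor.Co1} (hx : orderOf x = 5) (hy : orderOf y = 5) :
    IsConj x y ∨ SPair 5 (⊤ : Subgroup Spor.Co1) x y := by
  obtain ⟨i, hi, n, w, h1⟩ := exists_rep hx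
  obtain ⟨j, hj, m, v, h2⟩ := exists_rep hy
  have h3 := isConj_of_zpow (sq_rv hi) (orderOf_rv hi) hx h1
  have h4 := isConj_of_zpow (sq_rv hj) (orderOf_rv hj) hy h2
  rcases eq_or_ne i j with rfl | hij
  · exact Or.inl (h3.symm.trans h4)
  · right
    have h5 := pair_rv hi hj hij
    obtain ⟨s, hs⟩ := isConj_iff.1 h3.symm
    obtain ⟨t, ht⟩ := isConj_iff.1 h4.symm
    rw [← hs, ← ht] at h5
    exact (h5.conj_left (mem_top s)).conj_right (mem_top t)

/-- **All pairs of elements of order five of a group isomorphic to `Co1`.** -/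
theorem spair {K : Type u} [Group K] [Finite K] [IsSimpleGroup K] (hAA : AAHyp.{u} 5) (hRS : RSHyp.{u} 5)
    (e : K ≃* Spor.Co1) (hna : ¬ IsMulCommutative K) {x y : K} (hx : orderOf x = 5) (hy : orderOf y = 5) :
    SPair 5 (⊤ : Subgroup K) x y := by
  have hx' : orderOf (e x) = 5 := by rw [MulEquiv.orderOf_eq, hx]
  have hy' : orderOf (e y) = 5 := by rw [MulEquiv.orderOf_eq, hy]
  rcases conj_or_pair hx' hy' with h | h
  · obtain ⟨g, hg⟩ := isConj_iff.1 h.symm
    have h1 : e.symm g * y * (e.symm g)⁻¹ = x := by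
      apply e.injective
      rw [map_mul, map_mul, map_inv, e.apply_symm_apply, hg]
    exact SPair.mk' five (apair_of_isConj_zpow hRS five hna hx (s := e.symm g) (j := 1) (by rw [zpow_one, h1]))
      (bpair_of_isConj hAA five hna hx (isConj_iff.2 ⟨e.symm g, h1⟩).symm)
  · refine SPair.of_hom five e.toMonoidHom (T := ⊤) ?_ h
    intro w _
    exact ⟨e.symm w, mem_top _, e.apply_symm_apply w⟩

/-- **The strong row of `Co1`, `p = 5`.** -/
theorem srow_co1 (B : SBox.{u} 5) (K : Type u) [Group K] [Finite K] [IsSimpleGroup K] (h : Spor.IsoCo1 K) :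
    SRow 5 K := by
  obtain ⟨e⟩ := h
  have hcard : Nat.card K = 4157776806543360000 := by
    rw [Nat.card_congr e.toEquiv, S0399.result.2]
  have hna := H752.TFiveCo.not_comm_of_card (G := K) (by rw [hcard]; norm_num)
  refine SRow.of_inner hna ?_ fun x y hx hy => spair B.aa B.rs e hna hx hy
  intro α _
  obtain ⟨s, hs⟩ := ConwayFacts.AutCo1.inner_of_equiv e α
  exact ⟨s, MulEquiv.ext fun g => by rw [hs, MulAut.conj_apply]⟩

end Cfsg.Agent.H752.S5.CoFive
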