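import Cfsg.Agent.H752.CoOneSevenSP
import Cfsg.Agent.Lib.AltCarmichael
import Cfsg.Agent.H132.S5.Main
import Cfsg.Agent.CpAutCoOneFive.Cls
import Cfsg.Agent.ConwayFacts.AutCo1
import Cfsg.Agent.H752.TFiveCo

/-!
# The strong pairs of order 7 of `Co1` (helper752; S2274)

`u = x y⁻¹`, `v = a w d e f` generate a Sylow 7-subgroup. The subgroup `L = ⟨a, w d..⟩ ≅ A₇` contains `v` and centralises
`u`, and `c u c⁻¹ = u³ v³`; hence every element of order seven has a conjugate which normalises and does not centralise `L`.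
`srow_co1 : SRow 7 K` for `K ≅ Co1`, no hypotheses.
-/

set_option autoImplicit false

namespace Cfsg.Agent.H752.S5.CoSeven

open Cfsg Subgroup Cfsg.Agent.CoOneType Cfsg.Agent.CoOneType.Model Cfsg.Agent.CoOneType.CoEval
open Cfsg.Agent.H752.CoOneSevenSP Cfsg.Agent.H533.T5 Cfsg.Agent.H132.S5 Cfsg.Agent.Lib.AltCarmichael

universe w₀

theorem seven : Nat.Prime 7 := by norm_num

/-- Carmichael's generators of `A₇`, as words in `a w d e f` -/
def cw : ℕ → List ℕ
  | 0 => [14]
  | 1 => [6, 15, 6]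
  | 2 => [7, 6, 14, 6, 7]
  | 3 => [8, 7, 6, 15, 6, 7, 8]
  | _ => [9, 8, 7, 6, 14, 6, 7, 8, 9]

theorem chk3 : ∀ i < 5, sameB M' (cw i ++ (cw i ++ cw i)) [] = true := by decide +kernel

theorem chk2 : ∀ i < 5, ∀ j < 5, i = j ∨ sameB M' (cw i ++ (cw j ++ (cw i ++ cw j))) [] = true := by decide +kernel

/-- the generators -/
def xx (i : ℕ) : Spor.Co1 := vl (cw i)

theorem vl_app (p q : List ℕ) : vl (p ++ q) = vl p * vl q := by
  unfold vl
  rw [List.map_append, List.prod_append]

theorem relx : Rel 5 xx where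
  cube i hi := by
    have h := rl (chk3 i hi)
    rw [vl_app, vl_app] at h
    have h0 : vl [] = 1 := rfl
    rw [h0] at h
    rw [pow_succ, pow_two, mul_assoc]
    exact h
  sq i hi j hj hij := by
    have h := rl ((chk2 i hi j hj).resolve_left hij)
    rw [vl_app, vl_app, vl_app] at h
    have h0 : vl [] = 1 := rfl
    rw [h0] at h
    rw [pow_two, mul_assoc]
    exact h

theorem xx0 : xx 0 = a := by
  unfold xx vl
  simp only [cw, List.map_cons, List.map_nil, List.prod_cons, List.prod_nil, mul_one]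
  rfl

theorem a_ne : a ≠ 1 := by
  have h := ne_one_of_neB hM' (w := [14]) (by decide +kernel)
  simp only [List.map_cons, List.map_nil, List.prod_cons, List.prod_nil, mul_one] at h
  exact h

/-- the subgroup `A₇` -/
def L : Subgroup Spor.Co1 := gen 5 xx

theorem L_equiv : Nonempty (↥L ≃* alternatingGroup (Fin 7)) :=
  nonempty_gen_equiv (m := 5) (by norm_num) relx ⟨0, by norm_num, by rw [xx0]; exact a_ne⟩

theorem mem_L {i : ℕ} (hi : i < 5) : xx i ∈ L := mem_gen hi

theorem a_mem : a ∈ L := by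
  rw [← xx0]
  exact mem_L (by norm_num)

theorem v_eq : v = xx 4 * (xx 3)⁻¹ * xx 2 * (xx 1)⁻¹ * xx 0 := by
  have h := rl (u := [14, 6, 7, 8, 9]) (v := [9, 8, 7, 6, 14, 6, 7, 8, 9] ++ ([8, 7, 6, 14, 6, 7, 8] ++
    ([7, 6, 14, 6, 7] ++ ([6, 14, 6] ++ [14])))) (by decide +kernel)
  have h1 : vl [14, 6, 7, 8, 9] = v := by
    unfold vl v
    simp only [List.map_cons, List.map_nil, List.prod_cons, List.prod_nil, mul_one, mul_assoc]
    rfl
  have h3 : vl [8, 7, 6, 14, 6, 7, 8] = (xx 3)⁻¹ := by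
    rw [eq_inv_iff_mul_eq_one]
    unfold xx
    rw [← vl_app]
    exact rl (v := []) (by decide +kernel)
  have h4 : vl [6, 14, 6] = (xx 1)⁻¹ := by
    rw [eq_inv_iff_mul_eq_one]
    unfold xx
    rw [← vl_app]
    exact rl (v := []) (by decide +kernel)
  rw [h1, vl_app, vl_app, vl_app, vl_app, h3, h4] at h
  rw [h]
  simp only [mul_assoc]
  rfl

theorem v_mem : v ∈ L := by
  rw [v_eq]
  exact mul_mem (mul_mem (mul_mem (mul_mem (mem_L (by norm_num)) (inv_mem (mem_L (by norm_num))))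
    (mem_L (by norm_num))) (inv_mem (mem_L (by norm_num)))) (mem_L (by norm_num))

/-- the letters commute with `u` -/
theorem comm_letters : ∀ i ∈ [6, 7, 8, 9, 14, 15], Commute (pr (l' i)) u := by
  intro i hi
  have ha : Commute a u := comm_u k_ax k_ay
  simp only [List.mem_cons, List.not_mem_nil, or_false] at hi
  rcases hi with rfl | rfl | rfl | rfl | rfl | rfl
  · exact comm_u p957.wx p957.wy
  · exact comm_u p957.dx p957.dy
  · exact comm_u p957.ex p957.ey
  · exact comm_u p957.fx p957.fy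
  · exact ha
  · exact ha.inv_left

theorem comm_word {p : List ℕ} (h : ∀ i ∈ p, i ∈ [6, 7, 8, 9, 14, 15]) : Commute (vl p) u := by
  induction p with
  | nil => exact Commute.one_left _
  | cons i p ih =>
    have h1 : vl (i :: p) = pr (l' i) * vl p := by
      unfold vl
      rw [List.map_cons, List.prod_cons]
    rw [h1]
    exact (comm_letters i (h i List.mem_cons_self)).mul_left (ih fun j hj => h j (List.mem_cons_of_mem _ hj))

theorem cw_letters : ∀ i < 5, ∀ j ∈ cw i, j ∈ [6, 7, 8, 9, 14, 15] := by decide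

theorem L_le : L ≤ centralizer {u} := by
  unfold L
  rw [gen_def, closure_le]
  rintro _ ⟨i, hi, rfl⟩
  rw [SetLike.mem_coe, mem_centralizer_singleton_iff]
  exact comm_word (cw_letters i hi)

theorem comm_uL {l : Spor.Co1} (hl : l ∈ L) : Commute l u := mem_centralizer_singleton_iff.1 (L_le hl)

instance finite_co : Finite Spor.Co1 := finite_co1

theorem card_L : Nat.card ↥L = 2520 := by
  obtain ⟨f⟩ := L_equiv
  have : Nontrivial (Fin 7) := inferInstance
  have h := nat_card_alternatingGroup (α := Fin 7)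
  rw [Nat.card_eq_fintype_card (α := Fin 7), Fintype.card_fin] at h
  rw [Nat.card_congr f.toEquiv, h]
  decide

instance simple_L : IsSimpleGroup ↥L := by
  obtain ⟨f⟩ := L_equiv
  have : IsSimpleGroup (alternatingGroup (Fin 7)) :=
    alternatingGroup.isSimpleGroup (by rw [Nat.card_eq_fintype_card, Fintype.card_fin]; norm_num)
  exact (MulEquiv.isSimpleGroup_congr f).2 this

theorem L_not_comm : ¬ IsMulCommutative ↥L := H752.TFiveCo.not_comm_of_card (by rw [card_L]; norm_num)

/-- an element of `L` commuting with `L` is trivial -/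
theorem eq_one_of_comm {l : Spor.Co1} (hl : l ∈ L) (h : ∀ r ∈ L, Commute r l) : l = 1 := by
  have h1 : (⟨l, hl⟩ : ↥L) ∈ center ↥L := by
    rw [mem_center_iff]
    intro r
    exact Subtype.ext (h r r.2)
  rcases (inferInstance : (center ↥L).Normal).eq_bot_or_eq_top with h2 | h2
  · rw [h2, mem_bot] at h1
    exact congrArg Subtype.val h1
  · exfalso
    apply L_not_comm
    refine ⟨⟨fun p q => ?_⟩⟩
    have h3 : q ∈ center ↥L := by rw [h2]; exact mem_top _
    exact mem_center_iff.1 h3 p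

/-- `u ^ i v ^ j` normalises `L` -/
theorem norm_uv (i j : ℤ) : u ^ i * v ^ j ∈ normalizer (L : Set Spor.Co1) := by
  have hu : u ∈ normalizer (L : Set Spor.Co1) := by
    rw [mem_normalizer_iff]
    intro l
    constructor
    · intro hl
      have : u * l * u⁻¹ = l := by rw [← (comm_uL hl).eq, mul_inv_cancel_right]
      rw [this]
      exact hl
    · intro hl
      have h1 := comm_uL hl
      have h2 : l = u * l * u⁻¹ := by
        have h3 : u⁻¹ * (u * l * u⁻¹) * u = u * l * u⁻¹ := by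
          rw [mul_assoc u⁻¹, h1.eq]
          group
        rw [← h3]
        group
      rw [h2]
      exact hl
  exact mul_mem (zpow_mem hu i) (zpow_mem (le_normalizer v_mem) j)

theorem not_comm_uv {i j : ℤ} (h : v ^ j ≠ 1) : ∃ r ∈ L, ¬ Commute r (u ^ i * v ^ j) := by
  by_contra hcon
  push Not at hcon
  apply h
  refine eq_one_of_comm (zpow_mem v_mem j) fun r hr => ?_
  have h1 : Commute r (u ^ i) := (comm_uL hr).zpow_right i
  have h2 : v ^ j = (u ^ i)⁻¹ * (u ^ i * v ^ j) := by group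
  rw [h2]
  exact h1.inv_right.mul_right (hcon r hr)

theorem comm_uv : Commute u v := (comm_uL v_mem).symm

theorem v_not_mem : v ∉ zpowers u := by
  rintro ⟨n, hn⟩
  apply v_ne
  refine eq_one_of_comm v_mem fun r hr => ?_
  have hn' : u ^ n = v := hn
  rw [← hn']
  exact (comm_uL hr).zpow_right n

/-- the Sylow subgroup -/
def Q : Subgroup Spor.Co1 where
  carrier := {y | ∃ i j : ℤ, y = u ^ i * v ^ j}
  mul_mem' := by
    rintro _ _ ⟨i, j, rfl⟩ ⟨k, l, rfl⟩
    refine ⟨i + k, j + l, ?_⟩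
    have h : v ^ j * u ^ k = u ^ k * v ^ j := (comm_uv.symm.zpow_zpow j k).eq
    rw [zpow_add, zpow_add, mul_assoc, ← mul_assoc (v ^ j), h]
    simp only [mul_assoc]
  one_mem' := ⟨0, 0, by simp⟩
  inv_mem' := by
    rintro _ ⟨i, j, rfl⟩
    refine ⟨-i, -j, ?_⟩
    rw [mul_inv_rev, zpow_neg, zpow_neg]
    exact ((comm_uv.zpow_zpow i j).inv_inv).symm.eq

theorem mem_Q {y : Spor.Co1} : y ∈ Q ↔ ∃ i j : ℤ, y = u ^ i * v ^ j := Iff.rfl

theorem pow_Q {y : Spor.Co1} (hy : y ∈ Q) : y ^ 7 = 1 := by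
  obtain ⟨i, j, rfl⟩ := hy
  have key : ∀ (g : Spor.Co1) (n : ℤ), g ^ 7 = 1 → (g ^ n) ^ 7 = 1 := by
    intro g n h
    rw [← zpow_natCast (g ^ n), ← zpow_mul, mul_comm, zpow_mul, zpow_natCast, h, one_zpow]
  rw [(comm_uv.zpow_zpow i j).mul_pow, key u i u_pow, key v j v_pow, one_mul]

theorem isPGroup_Q : IsPGroup 7 ↥Q := fun y => ⟨1, Subtype.ext (by
  rw [pow_one]
  exact pow_Q y.2)⟩

theorem card_Q : ¬ 7 * Nat.card ↥Q ∣ Nat.card ↥(⊤ : Subgroup Spor.Co1) := by
  have hp : Fact (Nat.Prime 7) := ⟨seven⟩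
  obtain ⟨k, hk⟩ := IsPGroup.iff_card.1 isPGroup_Q
  have h1 : zpowers u ≤ Q := by
    rw [zpowers_le]
    exact ⟨1, 0, by simp⟩
  have h2 : v ∈ Q := ⟨0, 1, by simp⟩
  have h3 : Nat.card ↥(zpowers u) < Nat.card ↥Q := by
    refine lt_of_le_of_ne (Subgroup.card_le_of_le h1) fun h => v_not_mem ?_
    rw [Subgroup.eq_of_le_of_card_ge h1 h.ge]
    exact h2
  have h4 : orderOf u = 7 := orderOf_eq_prime u_pow u_ne
  rw [Nat.card_zpowers, h4, hk] at h3
  have h5 : 2 ≤ k := by
    by_contra h6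
    have h7 : k ≤ 1 := by omega
    have := Nat.pow_le_pow_right (show 0 < 7 by norm_num) h7
    omega
  intro h6
  rw [Subgroup.card_top, Cfsg.Agent.S0399.result.2, hk] at h6
  have h7 : 7 ^ 3 ∣ 7 * 7 ^ k := by
    rw [← pow_succ']
    exact pow_dvd_pow 7 (by omega)
  have h8 := h7.trans h6
  norm_num at h8

/-- elements of order seven are conjugate to `u ^ i v ^ j` with a nontrivial second factor -/
theorem exists_uv {x : Spor.Co1} (hx : orderOf x = 7) :
    ∃ (s : Spor.Co1) (i j : ℤ), s * x * s⁻¹ = u ^ i * v ^ j ∧ v ^ j ≠ 1 := by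
  obtain ⟨s, -, hs⟩ := CpAutCoOneFive.Cls.conj_into seven (le_top (a := Q)) isPGroup_Q card_Q
    (by rw [← hx]; exact pow_orderOf_eq_one x) (mem_top x)
  obtain ⟨i, j, h1⟩ := hs
  by_cases hj : v ^ j = 1
  · refine ⟨c * s, 3 * i, 3 * i, ?_, ?_⟩
    · have h2 : c * s * x * (c * s)⁻¹ = c * (s * x * s⁻¹) * c⁻¹ := by group
      have h3 : Commute (u ^ 3) (v ^ 3) := comm_uv.pow_pow 3 3
      have key : ∀ g : Spor.Co1, (g ^ 3) ^ i = g ^ (3 * i) := fun g => (zpow_mul g 3 i).symm
      rw [h2, h1, hj, mul_one, ← conj_zpow, c_conj, h3.mul_zpow, key, key]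
    · intro h3
      have hp : Fact (Nat.Prime 7) := ⟨seven⟩
      have hov : orderOf v = 7 := orderOf_eq_prime v_pow v_ne
      have h4 : (7 : ℤ) ∣ 3 * i := by
        have := orderOf_dvd_iff_zpow_eq_one.2 h3
        rw [hov] at this
        exact_mod_cast this
      have h5 : (7 : ℤ) ∣ i := by omega
      obtain ⟨k, rfl⟩ := h5
      have h6 : u ^ (7 * k) = 1 := by
        rw [zpow_mul]
        have h7 : u ^ (7 : ℤ) = 1 := by
          have := u_pow
          exact_mod_cast this
        rw [h7, one_zpow]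
      rw [hj, mul_one, h6] at h1
      have h8 : x = 1 := by
        have h9 : x = s⁻¹ * (s * x * s⁻¹) * s := by group
        rw [h9, h1]
        group
      rw [h8, orderOf_one] at hx
      norm_num at hx
  · exact ⟨s, i, j, h1, hj⟩

/-- **All pairs of elements of order seven of `Co1`.** -/
theorem spair_co1 {x y : Spor.Co1} (hx : orderOf x = 7) (hy : orderOf y = 7) :
    SPair 7 (⊤ : Subgroup Spor.Co1) x y := by
  obtain ⟨s, i, j, h1, h2⟩ := exists_uv hx
  obtain ⟨t, k, l, h3, h4⟩ := exists_uv hy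
  refine SPair.conj_left (mem_top s) (SPair.conj_right (mem_top t) ?_)
  have hx' : orderOf (s * x * s⁻¹) = 7 := by rw [← MulAut.conj_apply, MulEquiv.orderOf_eq, hx]
  have hy' : orderOf (t * y * t⁻¹) = 7 := by rw [← MulAut.conj_apply, MulEquiv.orderOf_eq, hy]
  refine spair_of_simple seven (le_top (a := L))
    (Cfsg.Agent.H143.T5Alt.srow_alt (n := 7) (by norm_num) L_equiv seven (by norm_num)) hx' hy' ?_ ?_ ?_ ?_
  · rw [h1]; exact norm_uv i j
  · rw [h3]; exact norm_uv k l
  · rw [h1]; exact not_comm_uv h2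
  · rw [h3]; exact not_comm_uv h4

/-- **The strong row of `Co1`, `p = 7`.** -/
theorem srow_co1 (K : Type*) [Group K] [Finite K] [IsSimpleGroup K] (h : Spor.IsoCo1 K) : SRow 7 K := by
  obtain ⟨e⟩ := h
  have hcard : Nat.card K = 4157776806543360000 := by
    rw [Nat.card_congr e.toEquiv, S0399.result.2]
  refine SRow.of_inner (H752.TFiveCo.not_comm_of_card (G := K) (by rw [hcard]; norm_num)) ?_ fun x y hx hy => ?_
  · intro α _
    obtain ⟨s, hs⟩ := ConwayFacts.AutCo1.inner_of_equiv e α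
    exact ⟨s, MulEquiv.ext fun g => by rw [hs, MulAut.conj_apply]⟩
  · refine SPair.of_hom seven e.toMonoidHom (T := ⊤) ?_ (spair_co1 ?_ ?_)
    · intro z _
      exact ⟨e.symm z, mem_top _, e.apply_symm_apply z⟩
    · rw [← hx]
      exact orderOf_injective e.toMonoidHom e.injective x
    · rw [← hy]
      exact orderOf_injective e.toMonoidHom e.injective y

end Cfsg.Agent.H752.S5.CoSeven
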