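import Cfsg.Agent.H609.T5.MMidFive
import Cfsg.Agent.H132.S5.Main
import Cfsg.Agent.BpSpor.Inn.Suz
import Cfsg.Agent.S1679
import Cfsg.Agent.S1694
import Cfsg.Agent.S1055
import Cfsg.Agent.S1059
import Cfsg.Agent.H752.TFiveCo

/-!
# The strong rows of `J2` and `Suz`, `p = 5` (helper752; S2274)

`J2`: the section `C(w) → A₅` (helper609's `JTwo.exists_al`); `Suz`: the subgroup `G₂(4)` of index 1782.
-/

set_option autoImplicit false

namespace Cfsg.Agent.H752.S5.SuzJ2

open Cfsg Subgroup Cfsg.Agent.H533.T5 Cfsg.Agent.H132.S5 Cfsg.Agent.H609.T5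

universe u

section al

variable {G : Type*} [Group G] {A : Type*} [Group A] {x : G} {ρ : ↥(centralizer ({x} : Set G)) →* A}

/-- **Strong pairs from the section `C(x) → A`.** -/
theorem al_spair {p : ℕ} (hp : p.Prime) (hρ : Function.Surjective ρ)
    (hA : ∀ a b : A, orderOf a = p → orderOf b = p → SPair p (⊤ : Subgroup A) a b)
    {r s : G} (hr : Al x ρ r) (hs : Al x ρ s) (hrp : orderOf r = p) (hsp : orderOf s = p) :
    SPair p (⊤ : Subgroup G) r s := by
  obtain ⟨g, hg, hgr⟩ := hr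
  obtain ⟨k, hk, hks⟩ := hs
  have ho : ∀ {t : G} (c : G) (hc : c * t * c⁻¹ ∈ centralizer ({x} : Set G)), orderOf t = p →
      ρ ⟨c * t * c⁻¹, hc⟩ ≠ 1 → orderOf (ρ ⟨c * t * c⁻¹, hc⟩) = p := by
    intro t c hc ht h1
    have h2 : (⟨c * t * c⁻¹, hc⟩ : ↥(centralizer ({x} : Set G))) ^ p = 1 := by
      apply Subtype.ext
      show (c * t * c⁻¹) ^ p = 1
      rw [conj_pow, ← ht, pow_orderOf_eq_one]
      group
    have : Fact p.Prime := ⟨hp⟩
    exact orderOf_eq_prime (by rw [← map_pow, h2, map_one]) h1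
  refine SPair.conj_left (mem_top g) (SPair.conj_right (mem_top k) ?_)
  refine SPair.of_section hp (M := centralizer ({x} : Set G)) (S := ⊤) (T := ⊤) ρ ?_
    (c := ⟨g * r * g⁻¹, hg⟩) (d := ⟨k * s * k⁻¹, hk⟩) (hA _ _ (ho g hg hrp hgr) (ho k hk hsp hks))
  intro a _
  obtain ⟨d, rfl⟩ := hρ a
  exact ⟨d, mem_subgroupOf.2 (mem_top _), rfl⟩

end al

/-- **The strong pairs of `J2`, `p = 5`.** -/
theorem spair_j2 {G : Type*} [Group G] [Finite G] (h : Spor.IsoJ2 G) {x y : G} (hx : orderOf x = 5) (hy : orderOf y = 5) :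
    SPair 5 (⊤ : Subgroup G) x y := by
  obtain ⟨w, ρ, hρ, hal⟩ := JTwo.exists_al h
  exact al_spair Nat.prime_five hρ (fun a b ha hb => H201.T5Alt.spair_alt Nat.prime_five le_rfl a b ha hb)
    (hal x hx) (hal y hy) hx hy

/-- **The strong row of `J2`, `p = 5`.** -/
theorem srow_j2 (K : Type*) [Group K] [Finite K] [IsSimpleGroup K] (h : Spor.IsoJ2 K) : SRow 5 K := by
  have hinn := BpSpor.Inn.j2 h
  have hna : ¬ IsMulCommutative K := H752.TFiveCo.not_comm_of_card (by
    rw [H847.JTwoOdd.card_of h]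
    norm_num)
  refine SRow.of_inner hna (fun a ha => ?_) (fun x y hx hy => spair_j2 h hx hy)
  obtain ⟨g, rfl⟩ := hinn 5 Nat.prime_five (by norm_num) a ha
  exact ⟨g, rfl⟩

/-- the subgroup `G₂(4)` of the presented group -/
theorem exists_sub : ∃ (T : Subgroup Spor.Suz), Nat.card ↥T = 251596800 ∧ IsSimpleGroup ↥T := by
  obtain ⟨F, _, _, hF, ⟨e⟩⟩ := S1679.result
  have hs : IsSimpleGroup ↥(Lie.chevG2.group F) := by
    refine (S1055.result ?_).1
    by_contra hcon
    push Not at hcon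
    have h1 : ∀ a : F, a = 0 ∨ a = 1 := fun a => by
      rcases eq_or_ne a 0 with h | h
      · exact Or.inl h
      · exact Or.inr (hcon a h)
    classical
    have h2 : (Finset.univ : Finset F) ⊆ {0, 1} := by
      intro a _
      rcases h1 a with rfl | rfl <;> simp
    have h3 := Finset.card_le_card h2
    rw [Finset.card_univ, hF] at h3
    have h4 : ({0, 1} : Finset F).card ≤ 2 := Finset.card_le_two
    omega
  refine ⟨_, ?_, e.isSimpleGroup⟩
  rw [Nat.card_congr e.toEquiv, S1059.result hF]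
  norm_num

/-- **The strong row of `Suz`, `p = 5`.** -/
theorem srow_suz (K : Type u) [Group K] [Finite K] [IsSimpleGroup K] (h : Spor.IsoSuz K)
    (hlt : SBelow.{u} 5 (Nat.card K)) : SRow 5 K := by
  have hinn := BpSpor.Inn.suz h
  obtain ⟨e⟩ := h
  have h5 : Fact (Nat.Prime 5) := ⟨Nat.prime_five⟩
  obtain ⟨T, hT, hTs⟩ := exists_sub
  have hcard : Nat.card K = 448345497600 := by
    rw [Nat.card_congr e.toEquiv, S1694.result.2]
  have hna : ¬ IsMulCommutative K := H752.TFiveCo.not_comm_of_card (by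
    rw [hcard]
    norm_num)
  let T' : Subgroup K := T.comap e.toMonoidHom
  let f : ↥T' ≃* ↥T := e.subgroupMap T' |>.trans (MulEquiv.subgroupCongr (by
    show (T.comap e.toMonoidHom).map e.toMonoidHom = T
    exact Subgroup.map_comap_eq_self_of_surjective e.surjective T))
  have hT' : Nat.card ↥T' = 251596800 := by rw [Nat.card_congr f.toEquiv, hT]
  have hs : IsSimpleGroup ↥T' := f.isSimpleGroup
  have hna' : ¬ IsMulCommutative ↥T' := H752.TFiveCo.not_comm_of_card (by
    rw [hT']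
    norm_num)
  have hidx : T'.index = 1782 := by
    have h1 := T'.card_mul_index
    rw [hT', hcard] at h1
    omega
  refine SRow.of_inner hna (fun a ha => ?_) (fun x y hx hy => ?_)
  · obtain ⟨g, rfl⟩ := hinn 5 Nat.prime_five (by norm_num) a ha
    exact ⟨g, rfl⟩
  · exact spair_of_index hna' (hlt ↥T' hs hna' (by rw [hT', hcard]; norm_num)) T' (by rw [hidx]; norm_num)
      (MulEquiv.refl _) hx hy

end Cfsg.Agent.H752.S5.SuzJ2
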